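import Mathlib

set_option autoImplicit false
universe u
open CategoryTheory CategoryTheory.Limits TensorProduct

namespace Groth.Agent.Lib.Helper2.PerfDesc

section Theta

noncomputable def thetaEquiv {S S' : Type u} [CommRing S] [CommRing S'] (φ : S →+* S') (n : ℕ) :
    (ModuleCat.extendScalars.{u,u,u} φ).obj (ModuleCat.of S (Fin n → S)) ≅
      ModuleCat.of S' (Fin n → S') :=
  letI := φ.toAlgebra
  (TensorProduct.piScalarRight S S' S' (Fin n)).toModuleIso

lemma thetaEquiv_apply {S S' : Type u} [CommRing S] [CommRing S'] (φ : S →+* S') (n : ℕ)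
    (v : Fin n → S) :
    letI := φ.toAlgebra
    (thetaEquiv φ n).hom.hom ((1 : S') ⊗ₜ[S] v) = fun i => φ (v i) := by
  let _ := φ.toAlgebra
  have h := TensorProduct.piScalarRight_apply S S' S' (Fin n) ((1 : S') ⊗ₜ[S] v)
  rw [TensorProduct.piScalarRightHom_tmul] at h
  refine h.trans ?_
  funext i
  show v i • (1 : S') = φ (v i)
  rw [Algebra.smul_def, mul_one]
  rfl

lemma thetaEquiv_naturality {S S' : Type u} [CommRing S] [CommRing S'] (φ : S →+* S') (n : ℕ)
    (A : Matrix (Fin n) (Fin n) S) :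
    (ModuleCat.extendScalars.{u,u,u} φ).map (ModuleCat.ofHom (Matrix.mulVecLin A)) ≫
        (thetaEquiv φ n).hom =
      (thetaEquiv φ n).hom ≫ ModuleCat.ofHom (Matrix.mulVecLin (A.map φ)) := by
  apply ModuleCat.ExtendScalars.hom_ext
  intro v
  have h1 := thetaEquiv_apply φ n v
  have h2 := thetaEquiv_apply φ n (A.mulVec v)
  let _ := φ.toAlgebra
  show (thetaEquiv φ n).hom.hom ((1 : S') ⊗ₜ[S] (A.mulVec v)) =
    (Matrix.mulVecLin (A.map φ)) ((thetaEquiv φ n).hom.hom ((1 : S') ⊗ₜ[S] v))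
  rw [h1]
  refine h2.trans ?_
  funext i
  rw [RingHom.map_mulVec]
  rfl

end Theta

section MatCx

variable (S : Type u) [CommRing S] {n : ℕ}

/-- the cochain complex with all terms `Fin n → S` and differentials given by matrices -/
noncomputable def matCx (D : ℤ → Matrix (Fin n) (Fin n) S) (h : ∀ k, D (k + 1) * D k = 0) :
    CochainComplex (ModuleCat.{u} S) ℤ :=
  CochainComplex.of (fun _ => ModuleCat.of S (Fin n → S))
    (fun k => ModuleCat.ofHom (Matrix.mulVecLin (D k)))
    (fun k => by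
      rw [← ModuleCat.ofHom_comp, ← Matrix.mulVecLin_mul, h, Matrix.mulVecLin_zero]
      rfl)

@[simp]
lemma matCx_X (D : ℤ → Matrix (Fin n) (Fin n) S) (h : ∀ k, D (k + 1) * D k = 0) (k : ℤ) :
    (matCx S D h).X k = ModuleCat.of S (Fin n → S) := rfl

lemma matCx_d (D : ℤ → Matrix (Fin n) (Fin n) S) (h : ∀ k, D (k + 1) * D k = 0) (k : ℤ) :
    (matCx S D h).d k (k + 1) = ModuleCat.ofHom (Matrix.mulVecLin (D k)) := by
  exact CochainComplex.of_d (V := ModuleCat.{u} S) (fun _ => ModuleCat.of S (Fin n → S))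
    (fun k => ModuleCat.ofHom (Matrix.mulVecLin (D k))) k

/-- chain maps between matrix complexes given by matrices -/
noncomputable def matHom (D D' : ℤ → Matrix (Fin n) (Fin n) S)
    (h : ∀ k, D (k + 1) * D k = 0) (h' : ∀ k, D' (k + 1) * D' k = 0)
    (A : ℤ → Matrix (Fin n) (Fin n) S) (hA : ∀ k, D' k * A k = A (k + 1) * D k) :
    matCx S D h ⟶ matCx S D' h' :=
  CochainComplex.ofHom (fun k => ModuleCat.ofHom (Matrix.mulVecLin (A k)))
    (fun k => by
      rw [matCx_d, matCx_d]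
      dsimp only [matCx_X]
      rw [← ModuleCat.ofHom_comp, ← ModuleCat.ofHom_comp, ← Matrix.mulVecLin_mul,
        ← Matrix.mulVecLin_mul, hA])

lemma matHom_f (D D' : ℤ → Matrix (Fin n) (Fin n) S)
    (h : ∀ k, D (k + 1) * D k = 0) (h' : ∀ k, D' (k + 1) * D' k = 0)
    (A : ℤ → Matrix (Fin n) (Fin n) S) (hA : ∀ k, D' k * A k = A (k + 1) * D k) (k : ℤ) :
    (matHom S D D' h h' A hA).f k = ModuleCat.ofHom (Matrix.mulVecLin (A k)) := rfl

end MatCx

section BaseChange

variable {S S' : Type u} [CommRing S] [CommRing S'] (φ : S →+* S') {n : ℕ}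

lemma map_rel (D : ℤ → Matrix (Fin n) (Fin n) S) (h : ∀ k, D (k + 1) * D k = 0) :
    ∀ k, (D (k + 1)).map φ * (D k).map φ = 0 := by
  intro k
  rw [← Matrix.map_mul, h]
  ext s t
  simp

/-- base change of a matrix complex is the matrix complex of the mapped matrices -/
noncomputable def matCxBaseChange (D : ℤ → Matrix (Fin n) (Fin n) S)
    (h : ∀ k, D (k + 1) * D k = 0) :
    ((ModuleCat.extendScalars.{u,u,u} φ).mapHomologicalComplex (ComplexShape.up ℤ)).obj
        (matCx S D h) ≅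
      matCx S' (fun k => (D k).map φ) (map_rel φ D h) :=
  HomologicalComplex.Hom.isoOfComponents (fun _ => thetaEquiv φ n) (by
    intro i j hij
    have hij' : i + 1 = j := hij
    subst hij'
    rw [Functor.mapHomologicalComplex_obj_d, matCx_d, matCx_d]
    exact (thetaEquiv_naturality φ n (D i)).symm)

lemma matCxBaseChange_hom_f (D : ℤ → Matrix (Fin n) (Fin n) S)
    (h : ∀ k, D (k + 1) * D k = 0) (k : ℤ) :
    (matCxBaseChange φ D h).hom.f k = (thetaEquiv φ n).hom := rfl

lemma matCxBaseChange_naturality (D : ℤ → Matrix (Fin n) (Fin n) S)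
    (h : ∀ k, D (k + 1) * D k = 0)
    (A : ℤ → Matrix (Fin n) (Fin n) S) (hA : ∀ k, D k * A k = A (k + 1) * D k)
    (hA' : ∀ k, (D k).map φ * (A k).map φ = (A (k + 1)).map φ * (D k).map φ) :
    ((ModuleCat.extendScalars.{u,u,u} φ).mapHomologicalComplex (ComplexShape.up ℤ)).map
        (matHom S D D h h A hA) ≫ (matCxBaseChange φ D h).hom =
      (matCxBaseChange φ D h).hom ≫
        matHom S' (fun k => (D k).map φ) (fun k => (D k).map φ) (map_rel φ D h) (map_rel φ D h)
          (fun k => (A k).map φ) hA' := by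
  ext k : 2
  rw [HomologicalComplex.comp_f, HomologicalComplex.comp_f, matCxBaseChange_hom_f,
    Functor.mapHomologicalComplex_map_f, matHom_f, matHom_f]
  exact congrArg ModuleCat.Hom.hom (thetaEquiv_naturality φ n (A k))

/-- variant with the mapped matrices replaced by propositionally equal ones -/
lemma exists_baseChange_iso (D : ℤ → Matrix (Fin n) (Fin n) S)
    (h : ∀ k, D (k + 1) * D k = 0)
    (A : ℤ → Matrix (Fin n) (Fin n) S) (hA : ∀ k, D k * A k = A (k + 1) * D k)
    (D1 : ℤ → Matrix (Fin n) (Fin n) S') (h1 : ∀ k, D1 (k + 1) * D1 k = 0)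
    (A1 : ℤ → Matrix (Fin n) (Fin n) S') (hA1 : ∀ k, D1 k * A1 k = A1 (k + 1) * D1 k)
    (hD : ∀ k, (D k).map φ = D1 k) (hAA : ∀ k, (A k).map φ = A1 k) :
    ∃ θ : ((ModuleCat.extendScalars.{u,u,u} φ).mapHomologicalComplex (ComplexShape.up ℤ)).obj
        (matCx S D h) ≅ matCx S' D1 h1,
      ((ModuleCat.extendScalars.{u,u,u} φ).mapHomologicalComplex (ComplexShape.up ℤ)).map
        (matHom S D D h h A hA) ≫ θ.hom = θ.hom ≫ matHom S' D1 D1 h1 h1 A1 hA1 := by
  obtain rfl : D1 = fun k => (D k).map φ := (funext hD).symm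
  obtain rfl : A1 = fun k => (A k).map φ := (funext hAA).symm
  exact ⟨matCxBaseChange φ D h, matCxBaseChange_naturality φ D h A hA hA1⟩

end BaseChange

end Groth.Agent.Lib.Helper2.PerfDesc
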