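import Mathlib

set_option autoImplicit false
universe u
open CategoryTheory CategoryTheory.Limits

namespace Groth.Agent.Lib.Helper2.PerfDesc

variable {J : Type u} [SmallCategory J] [IsFiltered J]
  (F : J ⥤ CommRingCat.{u}) (c : Cocone F) (hc : IsColimit c)

include hc in
/-- L1: a finite family of elements of the colimit lifts to a common stage. -/
theorem exists_lift_family (S : Type) [Finite S] (x : S → c.pt) :
    ∃ (j : J) (y : S → F.obj j), ∀ s, (c.ι.app j).hom (y s) = x s := by
  classical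
  have := Fintype.ofFinite S
  have h1 : ∀ s, ∃ (j : J) (y : F.obj j), (c.ι.app j).hom y = x s := fun s =>
    Concrete.isColimit_exists_rep F hc (x s)
  choose js ys hys using h1
  obtain ⟨j, hj⟩ := IsFiltered.sup_objs_exists (Finset.univ.image js)
  have h2 : ∀ s, Nonempty (js s ⟶ j) := fun s =>
    hj (Finset.mem_image_of_mem js (Finset.mem_univ s))
  let f := fun s => (h2 s).some
  refine ⟨j, fun s => (F.map (f s)).hom (ys s), fun s => ?_⟩
  have h3 := c.w (f s)
  have h4 : (c.ι.app j).hom ((F.map (f s)).hom (ys s)) = (F.map (f s) ≫ c.ι.app j).hom (ys s) := rfl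
  rw [h4, h3, hys]

include hc in
/-- two elements of one stage with the same image are equalized later. -/
theorem exists_equalize_one {j : J} (u v : F.obj j)
    (h : (c.ι.app j).hom u = (c.ι.app j).hom v) :
    ∃ (j' : J) (f : j ⟶ j'), (F.map f).hom u = (F.map f).hom v := by
  obtain ⟨k, f, g, hfg⟩ := Concrete.isColimit_exists_of_rep_eq F hc u v h
  refine ⟨IsFiltered.coeq f g, f ≫ IsFiltered.coeqHom f g, ?_⟩
  have h1 : (F.map (f ≫ IsFiltered.coeqHom f g)).hom u =
      (F.map (IsFiltered.coeqHom f g)).hom ((F.map f).hom u) := by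
    rw [F.map_comp]; rfl
  have h2 : (F.map (f ≫ IsFiltered.coeqHom f g)).hom v =
      (F.map (IsFiltered.coeqHom f g)).hom ((F.map g).hom v) := by
    rw [IsFiltered.coeq_condition f g, F.map_comp]; rfl
  rw [h1, h2]
  exact congrArg _ hfg

include hc in
/-- L2: a finite family of pairs with equal images is equalized at a later stage. -/
theorem exists_equalize_family (S : Type) [Finite S] {j : J} (u v : S → F.obj j)
    (h : ∀ s, (c.ι.app j).hom (u s) = (c.ι.app j).hom (v s)) :
    ∃ (j' : J) (f : j ⟶ j'), ∀ s, (F.map f).hom (u s) = (F.map f).hom (v s) := by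
  classical
  have := Fintype.ofFinite S
  have key : ∀ T : Finset S, ∃ (j' : J) (f : j ⟶ j'),
      ∀ s ∈ T, (F.map f).hom (u s) = (F.map f).hom (v s) := by
    intro T
    induction T using Finset.induction_on with
    | empty => exact ⟨j, 𝟙 j, fun s hs => by simp at hs⟩
    | insert s0 T hs0 ih =>
      obtain ⟨j', f, hf⟩ := ih
      have h0 : (c.ι.app j').hom ((F.map f).hom (u s0)) =
          (c.ι.app j').hom ((F.map f).hom (v s0)) := by
        have h3 := c.w f
        have h4 : ∀ z, (c.ι.app j').hom ((F.map f).hom z) = (F.map f ≫ c.ι.app j').hom z :=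
          fun z => rfl
        rw [h4, h4, h3]
        exact h s0
      obtain ⟨j'', g, hg⟩ := exists_equalize_one F c hc _ _ h0
      refine ⟨j'', f ≫ g, fun s hs => ?_⟩
      have h5 : ∀ z, (F.map (f ≫ g)).hom z = (F.map g).hom ((F.map f).hom z) := by
        intro z; rw [F.map_comp]; rfl
      rw [h5, h5]
      rcases Finset.mem_insert.mp hs with rfl | hs'
      · exact hg
      · exact congrArg _ (hf s hs')
  obtain ⟨j', f, hf⟩ := key Finset.univ
  exact ⟨j', f, fun s => hf s (Finset.mem_univ s)⟩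

/-- The data of a "matrix complex with idempotent": differentials `D k` and idempotents `e k`. -/
structure MatData (R : Type u) [CommRing R] (n : ℕ) (a b : ℤ) where
  D : ℤ → Matrix (Fin n) (Fin n) R
  e : ℤ → Matrix (Fin n) (Fin n) R
  h1 : ∀ k, D (k + 1) * D k = 0
  h2 : ∀ k, e k * e k = e k
  h3 : ∀ k, D k * e k = e (k + 1) * D k
  h4 : ∀ k, k ∉ Finset.Icc a b → D k = 0 ∧ e k = 0

include hc in
theorem exists_descent (n : ℕ) (a b : ℤ) (M : MatData c.pt n a b) :
    ∃ (j : J) (M' : MatData (F.obj j) n a b),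
      (∀ k, (M'.D k).map (c.ι.app j).hom = M.D k) ∧
      (∀ k, (M'.e k).map (c.ι.app j).hom = M.e k) := by
  classical
  -- Step 1: lift the entries
  let S := Fin 2 × ↥(Finset.Icc a b) × Fin n × Fin n
  let x : S → c.pt := fun p => if p.1 = 0 then M.D p.2.1.1 p.2.2.1 p.2.2.2 else M.e p.2.1.1 p.2.2.1 p.2.2.2
  obtain ⟨j0, y, hy⟩ := exists_lift_family F c hc S x
  let D0 : ℤ → Matrix (Fin n) (Fin n) (F.obj j0) := fun k =>
    if h : k ∈ Finset.Icc a b then Matrix.of (fun s t => y (0, ⟨k, h⟩, s, t)) else 0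
  let e0 : ℤ → Matrix (Fin n) (Fin n) (F.obj j0) := fun k =>
    if h : k ∈ Finset.Icc a b then Matrix.of (fun s t => y (1, ⟨k, h⟩, s, t)) else 0
  have hD0 : ∀ k, (D0 k).map (c.ι.app j0).hom = M.D k := by
    intro k
    by_cases h : k ∈ Finset.Icc a b
    · ext s t
      simp only [D0, dif_pos h, Matrix.map_apply, Matrix.of_apply]
      rw [hy]
      simp [x]
    · simp only [D0, dif_neg h]
      rw [(M.h4 k h).1]
      ext s t
      simp
  have he0 : ∀ k, (e0 k).map (c.ι.app j0).hom = M.e k := by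
    intro k
    by_cases h : k ∈ Finset.Icc a b
    · ext s t
      simp only [e0, dif_pos h, Matrix.map_apply, Matrix.of_apply]
      rw [hy]
      simp [x]
    · simp only [e0, dif_neg h]
      rw [(M.h4 k h).2]
      ext s t
      simp
  have hD0z : ∀ k, k ∉ Finset.Icc a b → D0 k = 0 := fun k h => by simp only [D0, dif_neg h]
  have he0z : ∀ k, k ∉ Finset.Icc a b → e0 k = 0 := fun k h => by simp only [e0, dif_neg h]
  -- Step 2: equalize the relations
  let S' := Fin 3 × ↥(Finset.Icc a b) × Fin n × Fin n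
  let u : S' → F.obj j0 := fun p =>
    if p.1 = 0 then (D0 (p.2.1.1 + 1) * D0 p.2.1.1) p.2.2.1 p.2.2.2
    else if p.1 = 1 then (e0 p.2.1.1 * e0 p.2.1.1) p.2.2.1 p.2.2.2
    else (D0 p.2.1.1 * e0 p.2.1.1) p.2.2.1 p.2.2.2
  let v : S' → F.obj j0 := fun p =>
    if p.1 = 0 then 0
    else if p.1 = 1 then (e0 p.2.1.1) p.2.2.1 p.2.2.2
    else (e0 (p.2.1.1 + 1) * D0 p.2.1.1) p.2.2.1 p.2.2.2
  have hmap : ∀ (A B : Matrix (Fin n) (Fin n) (F.obj j0)) (s t : Fin n),
      (c.ι.app j0).hom ((A * B) s t) =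
        (A.map (c.ι.app j0).hom * B.map (c.ι.app j0).hom) s t := by
    intro A B s t
    rw [← Matrix.map_mul]
    rfl
  have huv : ∀ p, (c.ι.app j0).hom (u p) = (c.ι.app j0).hom (v p) := by
    rintro ⟨i, k, s, t⟩
    by_cases hi0 : i = 0
    · simp only [u, v, if_pos hi0]
      rw [hmap, hD0, hD0, M.h1, map_zero]
      rfl
    · by_cases hi1 : i = 1
      · simp only [u, v, if_neg hi0, if_pos hi1]
        rw [hmap, he0, M.h2]
        rw [← he0]
        rfl
      · simp only [u, v, if_neg hi0, if_neg hi1]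
        rw [hmap, hmap, hD0, he0, he0, M.h3]
  obtain ⟨j1, f, hf⟩ := exists_equalize_family F c hc S' u v huv
  have hmapf : ∀ (A B : Matrix (Fin n) (Fin n) (F.obj j0)),
      (A * B).map (F.map f).hom = A.map (F.map f).hom * B.map (F.map f).hom := by
    intro A B
    rw [Matrix.map_mul]
  have hz : (0 : Matrix (Fin n) (Fin n) (F.obj j0)).map (F.map f).hom = 0 := by
    ext s t; simp
  have hcomp : ∀ (A : Matrix (Fin n) (Fin n) (F.obj j0)),
      (A.map (F.map f).hom).map (c.ι.app j1).hom = A.map (c.ι.app j0).hom := by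
    intro A
    ext s t
    simp only [Matrix.map_apply]
    have h3 := c.w f
    have h4 : ∀ z, (c.ι.app j1).hom ((F.map f).hom z) = (F.map f ≫ c.ι.app j1).hom z :=
      fun z => rfl
    rw [h4, h3]
  refine ⟨j1, ⟨fun k => (D0 k).map (F.map f).hom, fun k => (e0 k).map (F.map f).hom,
    ?_, ?_, ?_, ?_⟩, ?_, ?_⟩
  · intro k
    by_cases h : k ∈ Finset.Icc a b
    · rw [← hmapf]
      ext s t
      have := hf (0, ⟨k, h⟩, s, t)
      simp only [u, v, if_pos] at this
      simp only [Matrix.map_apply, Matrix.zero_apply]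
      rw [this, map_zero]
    · rw [hD0z k h, hz, mul_zero]
  · intro k
    by_cases h : k ∈ Finset.Icc a b
    · rw [← hmapf]
      ext s t
      have := hf (1, ⟨k, h⟩, s, t)
      simp only [u, v] at this
      simp only [Matrix.map_apply]
      exact this
    · rw [he0z k h, hz, mul_zero]
  · intro k
    by_cases h : k ∈ Finset.Icc a b
    · rw [← hmapf, ← hmapf]
      ext s t
      have := hf (2, ⟨k, h⟩, s, t)
      simp only [u, v] at this
      simp only [Matrix.map_apply]
      exact this
    · rw [he0z k h, hD0z k h, hz, mul_zero, mul_zero]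
  · intro k h
    exact ⟨by rw [hD0z k h, hz], by rw [he0z k h, hz]⟩
  · intro k
    rw [hcomp, hD0]
  · intro k
    rw [hcomp, he0]

end Groth.Agent.Lib.Helper2.PerfDesc
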