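import Mathlib
import Groth.Prelude.Def_DRing2
import Groth.Agent.Lib.Helper2.PerfDesc.Ring
import Groth.Agent.Lib.Helper2.PerfDesc.MatCx

set_option autoImplicit false
universe u
open CategoryTheory CategoryTheory.Limits

namespace Groth.Agent.Lib.Helper2.PerfDesc

section Cat

variable {C : Type*} [Category C]

/-- two retracts with conjugate idempotents are isomorphic -/
lemma nonempty_iso_of_retracts {K E M M' : C} (θ : M' ≅ M)
    (i' : K ⟶ M') (p' : M' ⟶ K) (e' : M' ⟶ M') (h1' : i' ≫ p' = 𝟙 K) (h2' : p' ≫ i' = e')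
    (iE : E ⟶ M) (pE : M ⟶ E) (e : M ⟶ M) (h1 : iE ≫ pE = 𝟙 E) (h2 : pE ≫ iE = e)
    (hθ : e' ≫ θ.hom = θ.hom ≫ e) : Nonempty (K ≅ E) := by
  refine ⟨⟨i' ≫ θ.hom ≫ pE, iE ≫ θ.inv ≫ p', ?_, ?_⟩⟩
  · calc (i' ≫ θ.hom ≫ pE) ≫ iE ≫ θ.inv ≫ p'
        = i' ≫ θ.hom ≫ (pE ≫ iE) ≫ θ.inv ≫ p' := by simp only [Category.assoc]
      _ = i' ≫ (θ.hom ≫ e) ≫ θ.inv ≫ p' := by rw [h2]; simp only [Category.assoc]
      _ = i' ≫ (e' ≫ θ.hom) ≫ θ.inv ≫ p' := by rw [hθ]
      _ = i' ≫ e' ≫ p' := by simp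
      _ = (i' ≫ p') ≫ (i' ≫ p') := by rw [← h2']; simp only [Category.assoc]
      _ = 𝟙 K := by rw [h1']; simp
  · have hθ' : θ.inv ≫ e' = e ≫ θ.inv := by
      rw [Iso.inv_comp_eq, ← Category.assoc, ← hθ, Category.assoc, Iso.hom_inv_id, Category.comp_id]
    calc (iE ≫ θ.inv ≫ p') ≫ i' ≫ θ.hom ≫ pE
        = iE ≫ θ.inv ≫ (p' ≫ i') ≫ θ.hom ≫ pE := by simp only [Category.assoc]
      _ = iE ≫ (θ.inv ≫ e') ≫ θ.hom ≫ pE := by rw [h2']; simp only [Category.assoc]
      _ = iE ≫ (e ≫ θ.inv) ≫ θ.hom ≫ pE := by rw [hθ']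
      _ = iE ≫ e ≫ pE := by simp
      _ = (iE ≫ pE) ≫ (iE ≫ pE) := by rw [← h2]; simp only [Category.assoc]
      _ = 𝟙 E := by rw [h1]; simp

end Cat

section Fin

variable (R : Type u) [CommRing R]

/-- restriction along `Fin.castLE` -/
def resLE {m n : ℕ} (h : m ≤ n) : (Fin n → R) →ₗ[R] (Fin m → R) :=
  LinearMap.funLeft R R (Fin.castLE h)

/-- extension by zero -/
def incLE {m n : ℕ} (_h : m ≤ n) : (Fin m → R) →ₗ[R] (Fin n → R) where
  toFun g := fun x => if hx : x.val < m then g ⟨x.val, hx⟩ else 0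
  map_add' g g' := by
    funext x
    by_cases hx : x.val < m
    · simp [hx]
    · simp [hx]
  map_smul' r g := by
    funext x
    by_cases hx : x.val < m
    · simp [hx]
    · simp [hx]

lemma resLE_comp_incLE {m n : ℕ} (h : m ≤ n) : resLE R h ∘ₗ incLE R h = LinearMap.id := by
  ext g x
  simp [resLE, incLE, LinearMap.funLeft]

end Fin

section Cx

variable {R : Type u} [CommRing R]

theorem exists_uniform_retract (E : CochainComplex (ModuleCat.{u} R) ℤ) (a b : ℤ)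
    (hv : DRing.VanishesOutside E a b) (hp : DRing.TermwiseFiniteProjective E) :
    ∃ (n : ℕ) (i : ∀ k, E.X k ⟶ ModuleCat.of R (Fin n → R))
      (p : ∀ k, ModuleCat.of R (Fin n → R) ⟶ E.X k), ∀ k, i k ≫ p k = 𝟙 _ := by
  have h0 : ∀ k, ∃ (m : ℕ) (f : (Fin m → R) →ₗ[R] E.X k) (g : E.X k →ₗ[R] Fin m → R),
      f ∘ₗ g = LinearMap.id := by
    intro k
    have := (hp k).1
    have := (hp k).2
    obtain ⟨m, f, g, -, -, hfg⟩ := Module.Finite.exists_comp_eq_id_of_projective R (E.X k)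
    exact ⟨m, f, g, hfg⟩
  choose nk f g hfg using h0
  let n := (Finset.Icc a b).sup nk
  have key : ∀ k, ∃ (i : E.X k ⟶ ModuleCat.of R (Fin n → R))
      (p : ModuleCat.of R (Fin n → R) ⟶ E.X k), i ≫ p = 𝟙 _ := by
    intro k
    by_cases hk : k ∈ Finset.Icc a b
    · have hle : nk k ≤ n := Finset.le_sup (f := nk) hk
      refine ⟨ModuleCat.ofHom (incLE R hle ∘ₗ g k), ModuleCat.ofHom (f k ∘ₗ resLE R hle), ?_⟩
      rw [← ModuleCat.ofHom_comp]
      have : (f k ∘ₗ resLE R hle) ∘ₗ (incLE R hle ∘ₗ g k) = LinearMap.id := by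
        calc (f k ∘ₗ resLE R hle) ∘ₗ (incLE R hle ∘ₗ g k)
            = f k ∘ₗ (resLE R hle ∘ₗ incLE R hle) ∘ₗ g k := by
              simp only [LinearMap.comp_assoc]
          _ = LinearMap.id := by rw [resLE_comp_incLE, LinearMap.id_comp, hfg]
      rw [this]
      rfl
    · have hz : IsZero (E.X k) := by
        apply hv k
        rw [Finset.mem_Icc, not_and_or, not_le, not_le] at hk
        exact hk
      exact ⟨0, 0, hz.eq_of_src _ _⟩
  choose i p hip using key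
  exact ⟨n, i, p, hip⟩

theorem exists_matData (E : CochainComplex (ModuleCat.{u} R) ℤ) (a b : ℤ)
    (hv : DRing.VanishesOutside E a b) (hp : DRing.TermwiseFiniteProjective E) :
    ∃ (n : ℕ) (M : MatData R n a b) (iE : E ⟶ matCx R M.D M.h1) (pE : matCx R M.D M.h1 ⟶ E),
      iE ≫ pE = 𝟙 E ∧ pE ≫ iE = matHom R M.D M.D M.h1 M.h1 M.e M.h3 := by
  obtain ⟨n, i, p, hip⟩ := exists_uniform_retract E a b hv hp
  let Dm : ∀ k : ℤ, ModuleCat.of R (Fin n → R) ⟶ ModuleCat.of R (Fin n → R) :=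
    fun k => p k ≫ E.d k (k + 1) ≫ i (k + 1)
  let em : ∀ k : ℤ, ModuleCat.of R (Fin n → R) ⟶ ModuleCat.of R (Fin n → R) :=
    fun k => p k ≫ i k
  have hDD : ∀ k, Dm k ≫ Dm (k + 1) = 0 := by
    intro k
    calc Dm k ≫ Dm (k + 1)
        = p k ≫ E.d k (k + 1) ≫ (i (k + 1) ≫ p (k + 1)) ≫ E.d (k + 1) (k + 1 + 1) ≫ i (k + 1 + 1) := by
          simp only [Dm, Category.assoc]
      _ = 0 := by rw [hip]; simp
  have hee : ∀ k, em k ≫ em k = em k := by
    intro k
    calc em k ≫ em k = p k ≫ (i k ≫ p k) ≫ i k := by simp only [em, Category.assoc]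
      _ = em k := by rw [hip]; simp [em]
  have heD : ∀ k, em k ≫ Dm k = Dm k ≫ em (k + 1) := by
    intro k
    calc em k ≫ Dm k = p k ≫ (i k ≫ p k) ≫ E.d k (k + 1) ≫ i (k + 1) := by
          simp only [em, Dm, Category.assoc]
      _ = p k ≫ E.d k (k + 1) ≫ (i (k + 1) ≫ p (k + 1)) ≫ i (k + 1) := by rw [hip, hip]; simp
      _ = Dm k ≫ em (k + 1) := by simp only [em, Dm, Category.assoc]
  have hmat : ∀ (φ ψ : ModuleCat.of R (Fin n → R) ⟶ ModuleCat.of R (Fin n → R)),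
      LinearMap.toMatrix' (φ ≫ ψ).hom = LinearMap.toMatrix' ψ.hom * LinearMap.toMatrix' φ.hom := by
    intro φ ψ
    rw [← LinearMap.toMatrix'_comp]
    rfl
  have hz : LinearMap.toMatrix' (0 : ModuleCat.of R (Fin n → R) ⟶ ModuleCat.of R (Fin n → R)).hom = 0 := by
    rw [ModuleCat.hom_zero, map_zero]
  have hof : ∀ (φ : ModuleCat.of R (Fin n → R) ⟶ ModuleCat.of R (Fin n → R)),
      ModuleCat.ofHom (Matrix.mulVecLin (LinearMap.toMatrix' φ.hom)) = φ := by
    intro φ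
    rw [← Matrix.toLin'_apply', Matrix.toLin'_toMatrix']
    rfl
  let M : MatData R n a b :=
    { D := fun k => LinearMap.toMatrix' (Dm k).hom
      e := fun k => LinearMap.toMatrix' (em k).hom
      h1 := fun k => by rw [← hmat, hDD, hz]
      h2 := fun k => by rw [← hmat, hee]
      h3 := fun k => by rw [← hmat, ← hmat, heD]
      h4 := fun k hk => by
        have hz' : IsZero (E.X k) := by
          apply hv k
          rw [Finset.mem_Icc, not_and_or, not_le, not_le] at hk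
          exact hk
        have hp0 : p k = 0 := hz'.eq_of_tgt _ _
        constructor
        · have : Dm k = 0 := by simp only [Dm, hp0, zero_comp]
          rw [this, hz]
        · have : em k = 0 := by simp only [em, hp0, zero_comp]
          rw [this, hz] }
  have hMd : ∀ k, (matCx R M.D M.h1).d k (k + 1) = Dm k := by
    intro k
    rw [matCx_d]
    exact hof (Dm k)
  let iE : E ⟶ matCx R M.D M.h1 := CochainComplex.ofHom (fun k => i k) (fun k => by
    rw [hMd]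
    calc i k ≫ Dm k = (i k ≫ p k) ≫ E.d k (k + 1) ≫ i (k + 1) := by
          simp only [Dm, Category.assoc]
      _ = E.d k (k + 1) ≫ i (k + 1) := by rw [hip]; simp)
  let pE : matCx R M.D M.h1 ⟶ E := CochainComplex.ofHom (fun k => p k) (fun k => by
    rw [hMd]
    calc p k ≫ E.d k (k + 1) = p k ≫ E.d k (k + 1) ≫ (i (k + 1) ≫ p (k + 1)) := by
          rw [hip]; simp
      _ = Dm k ≫ p (k + 1) := by simp only [Dm, Category.assoc])
  refine ⟨n, M, iE, pE, ?_, ?_⟩
  · ext k : 2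
    exact congrArg ModuleCat.Hom.hom (hip k)
  · ext k : 2
    rw [HomologicalComplex.comp_f, matHom_f]
    exact congrArg ModuleCat.Hom.hom (hof (em k)).symm

end Cx

end Groth.Agent.Lib.Helper2.PerfDesc
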